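import Cfsg.Agent.PGroup.Frattini
import Mathlib.Algebra.Module.ZMod
import Mathlib.LinearAlgebra.Basis.VectorSpace
import Mathlib.LinearAlgebra.Projection
import Mathlib.GroupTheory.Frattini

/-!
Averaging: invariant complements in elementary abelian groups under coprime operator groups.
-/

set_option autoImplicit false

namespace CfsgLib.Averaging

variable {A : Type*} [Group A] [Finite A]

/-- A nonzero invariant subspace meeting an invariant proper subspace trivially. -/
theorem exists_invariant_disjoint {p : ℕ} [Fact p.Prime] {V : Type*} [AddCommGroup V] [Module (ZMod p) V]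
    (L : A →* Module.End (ZMod p) V) (hA : ¬ p ∣ Nat.card A) (M : Submodule (ZMod p) V)
    (hM : ∀ a, ∀ m ∈ M, L a m ∈ M) (hMt : M ≠ ⊤) :
    ∃ K : Submodule (ZMod p) V, (∀ a, ∀ k ∈ K, L a k ∈ K) ∧ M ⊓ K = ⊥ ∧ K ≠ ⊥ := by
  classical
  have := Fintype.ofFinite A
  obtain ⟨D, hD⟩ := exists_isCompl M
  set π := M.projection D hD
  set ψ : V →ₗ[ZMod p] V := ∑ a : A, L a * π * L a⁻¹ with hψ
  have hcu : ((Fintype.card A : ℕ) : ZMod p) ≠ 0 := by
    rw [Ne, ZMod.natCast_eq_zero_iff, ← Nat.card_eq_fintype_card]; exact hA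
  have hinv : ∀ (a : A) (v : V), L a (L a⁻¹ v) = v := fun a v => by
    rw [← Module.End.mul_apply, ← map_mul, mul_inv_cancel, map_one, Module.End.one_apply]
  have hψapp : ∀ v, ψ v = ∑ a : A, L a (π (L a⁻¹ v)) := fun v => by
    simp [hψ, LinearMap.sum_apply, Module.End.mul_apply]
  have hψM : ∀ v, ψ v ∈ M := fun v => by
    rw [hψapp]
    refine sum_mem fun a _ => hM a _ ?_
    exact Submodule.projection_apply_mem hD _
  have hfix : ∀ m ∈ M, ψ m = (Fintype.card A : ZMod p) • m := fun m hm => by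
    rw [hψapp]
    have : ∀ a : A, L a (π (L a⁻¹ m)) = m := fun a => by
      rw [Submodule.projection_apply_of_mem_left hD (hM a⁻¹ m hm), hinv]
    rw [Finset.sum_congr rfl fun a _ => this a, Finset.sum_const, Finset.card_univ, Nat.cast_smul_eq_nsmul]
  have heq : ∀ (b : A) (v : V), ψ (L b v) = L b (ψ v) := fun b v => by
    rw [hψapp, hψapp, map_sum]
    refine (Fintype.sum_equiv (Equiv.mulLeft b) _ _ fun a => ?_).symm
    rw [Equiv.coe_mulLeft, map_mul, Module.End.mul_apply, mul_inv_rev, map_mul, Module.End.mul_apply]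
    congr 3
    rw [← Module.End.mul_apply (L b⁻¹) (L b), ← L.map_mul, inv_mul_cancel, L.map_one, Module.End.one_apply]
  refine ⟨LinearMap.ker ψ, fun a k hk => ?_, ?_, ?_⟩
  · rw [LinearMap.mem_ker] at hk ⊢
    rw [heq, hk, map_zero]
  · rw [Submodule.eq_bot_iff]
    intro m hm
    have h1 := hfix m hm.1
    rw [LinearMap.mem_ker.1 hm.2] at h1
    exact (smul_eq_zero.1 h1.symm).resolve_left hcu
  · obtain ⟨v, -, hv⟩ := SetLike.exists_of_lt (lt_top_iff_ne_top.2 hMt)
    refine fun hb => hv ?_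
    have hk : (Fintype.card A : ZMod p) • v - ψ v ∈ LinearMap.ker ψ := by
      rw [LinearMap.mem_ker, map_sub, map_smul, hfix _ (hψM v), sub_self]
    rw [hb, Submodule.mem_bot, sub_eq_zero] at hk
    exact (M.smul_mem_iff hcu).1 (hk ▸ hψM v)

/-- If an invariant subgroup lies strictly between `Φ(G)` and `G` then some other invariant
subgroup above `Φ(G)` meets it in `Φ(G)`. -/
theorem exists_invariant_frattini_compl {G : Type*} [Group G] [Finite G] {p : ℕ} [Fact p.Prime]
    (hG : IsPGroup p G) (φ : A →* MulAut G) (hA : ¬ p ∣ Nat.card A) (M : Subgroup G)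
    (hΦ : frattini G ≤ M) (hM : ∀ a, ∀ m ∈ M, φ a m ∈ M) (hMt : M ≠ ⊤) :
    ∃ K : Subgroup G, frattini G < K ∧ (∀ a, ∀ k ∈ K, φ a k ∈ K) ∧ M ⊓ K = frattini G := by
  set Φ := frattini G
  let _ : CommGroup (G ⧸ Φ) :=
    { (inferInstance : Group (G ⧸ Φ)) with mul_comm := CfsgLib.PGroup.frattini_quotient_comm hG }
  have hz : ∀ x : Additive (G ⧸ Φ), p • x = 0 := fun x =>
    Additive.toMul.injective (CfsgLib.PGroup.frattini_quotient_pow hG (Additive.toMul x))
  let _ : Module (ZMod p) (Additive (G ⧸ Φ)) :=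
    AddCommGroup.zmodModule (n := p) (G := Additive (G ⧸ Φ)) hz
  have hc : ∀ a, Φ ≤ Φ.comap (φ a).toMonoidHom := fun a =>
    (Subgroup.characteristic_iff_comap_eq.1 frattini_characteristic (φ a)).ge
  let L : A →* Module.End (ZMod p) (Additive (G ⧸ Φ)) :=
    { toFun := fun a => AddMonoidHom.toZModLinearMap p (MonoidHom.toAdditive
        (QuotientGroup.map Φ Φ (φ a).toMonoidHom (hc a)))
      map_one' := LinearMap.ext fun w => by
        obtain ⟨x, hx⟩ := QuotientGroup.mk_surjective (Additive.toMul w)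
        show Additive.ofMul (QuotientGroup.map Φ Φ (φ 1).toMonoidHom (hc 1) (Additive.toMul w)) = w
        rw [← hx]
        show Additive.ofMul (QuotientGroup.mk (φ 1 x) : G ⧸ Φ) = w
        rw [map_one, MulAut.one_apply, hx]
        rfl
      map_mul' := fun a b => LinearMap.ext fun w => by
        obtain ⟨x, hx⟩ := QuotientGroup.mk_surjective (Additive.toMul w)
        show Additive.ofMul (QuotientGroup.map Φ Φ (φ (a * b)).toMonoidHom (hc _) (Additive.toMul w)) =
          Additive.ofMul (QuotientGroup.map Φ Φ (φ a).toMonoidHom (hc _)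
            (QuotientGroup.map Φ Φ (φ b).toMonoidHom (hc _) (Additive.toMul w)))
        rw [← hx]
        show Additive.ofMul (QuotientGroup.mk (φ (a * b) x) : G ⧸ Φ) = Additive.ofMul (QuotientGroup.mk (φ a (φ b x)) : G ⧸ Φ)
        rw [map_mul, MulAut.mul_apply] }
  let Mq : Submodule (ZMod p) (Additive (G ⧸ Φ)) :=
    AddSubgroup.toZModSubmodule p (M.map (QuotientGroup.mk' Φ)).toAddSubgroup
  have hmem : ∀ x : G, Additive.ofMul (QuotientGroup.mk x : G ⧸ Φ) ∈ Mq → x ∈ M := by
    rintro x ⟨m, hm, hmx⟩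
    have h1 : m⁻¹ * x ∈ Φ := QuotientGroup.eq.1 hmx
    simpa using mul_mem hm (hΦ h1)
  obtain ⟨K, hK, hinf, hne⟩ := exists_invariant_disjoint L hA Mq (fun a w ⟨m, hm, hmw⟩ =>
    ⟨φ a m, hM a m hm, congrArg (QuotientGroup.map Φ Φ (φ a).toMonoidHom (hc a)) hmw⟩) (fun ht => hMt (eq_top_iff.2 fun x _ =>
      hmem x (ht ▸ Submodule.mem_top)))
  set K' : Subgroup G := (AddSubgroup.toSubgroup' K.toAddSubgroup).comap (QuotientGroup.mk' Φ)
  have hΦK : Φ ≤ K' := fun x hx => by
    show Additive.ofMul (QuotientGroup.mk x : G ⧸ Φ) ∈ K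
    rw [(QuotientGroup.eq_one_iff x).2 hx]
    exact K.zero_mem
  refine ⟨K', lt_of_le_of_ne hΦK fun he => hne ?_, fun a k hk => hK a _ hk, ?_⟩
  · rw [Submodule.eq_bot_iff]
    intro w hw
    obtain ⟨x, hx⟩ := QuotientGroup.mk_surjective (Additive.toMul w)
    have : x ∈ K' := by
      show Additive.ofMul (QuotientGroup.mk x : G ⧸ Φ) ∈ K
      rw [hx]; exact hw
    rw [← he] at this
    apply Additive.toMul.injective
    rw [← hx, (QuotientGroup.eq_one_iff x).2 this]
    rfl
  · refine le_antisymm (fun x hx => ?_) (le_inf hΦ hΦK)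
    have h1 : Additive.ofMul (QuotientGroup.mk x : G ⧸ Φ) ∈ Mq ⊓ K :=
      ⟨Subgroup.mem_map_of_mem (QuotientGroup.mk' Φ) hx.1, hx.2⟩
    rw [hinf, Submodule.mem_bot] at h1
    exact (QuotientGroup.eq_one_iff x).1 (congrArg Additive.toMul h1)

end CfsgLib.Averaging
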