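import Cfsg.Agent.SolvableStructure.Schmidt
import Mathlib.Algebra.Group.Subgroup.Pointwise
import Mathlib.Tactic.Group

/-!
Wielandt's theorem: nilpotent Hall subgroups contain conjugates of all `π`-subgroups.
-/

set_option autoImplicit false

open scoped Pointwise

universe u

namespace CfsgLib.Schmidt

open CfsgLib.Transfer

/-- A nontrivial finite group all of whose proper subgroups are nilpotent has a nontrivial normal Sylow subgroup. -/
theorem exists_normal_sylow {K : Type u} [Group K] [Finite K] [Nontrivial K]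
    (h : ∀ L : Subgroup K, L ≠ ⊤ → Group.IsNilpotent L) :
    ∃ q : ℕ, q.Prime ∧ ∃ Q : Sylow q K, (Q : Subgroup K).Normal ∧ (Q : Subgroup K) ≠ ⊥ := by
  by_cases hn : Group.IsNilpotent K
  · obtain ⟨q, hq, hqd⟩ := Nat.exists_prime_and_dvd (Finite.one_lt_card (α := K)).ne'
    have := Fact.mk hq
    obtain ⟨Q⟩ : Nonempty (Sylow q K) := inferInstance
    exact ⟨q, hq, Q, Sylow.normal_of_normalizerCondition Group.normalizerCondition_of_isNilpotent Q,
      Q.ne_bot_of_dvd_card hqd⟩
  · obtain ⟨p, q, hp, hq, -, P, Q, -, hQn, -, hPc⟩ := exists_structure ⟨hn, h⟩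
    refine ⟨q, hq, Q, hQn, fun hb => hPc ?_⟩
    intro x _
    rw [Subgroup.mem_centralizer_iff]
    intro y hy
    rw [hb] at hy
    obtain rfl : y = 1 := hy
    simp

theorem wielandt (n : ℕ) : ∀ {G : Type u} [Group G] [Finite G] (H K : Subgroup G), Nat.card K = n →
    Group.IsNilpotent H → (Nat.card H).Coprime H.index →
    (∀ p : ℕ, p.Prime → p ∣ Nat.card K → p ∣ Nat.card H) → ∃ x : G, K ≤ MulAut.conj x • H := by
  induction n using Nat.strong_induction_on with
  | _ n ih =>
  intro G _ _ H K hn hH hHall hK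
  by_cases hKbot : K = ⊥
  · exact ⟨1, by rw [hKbot]; exact bot_le⟩
  have : Nontrivial K := (Subgroup.nontrivial_iff_ne_bot K).2 hKbot
  obtain ⟨q, hq, Q, hQn, hQbot⟩ := exists_normal_sylow (K := K) (fun L hL => by
    have hlt : Nat.card (L.map K.subtype) < n := by
      rw [Subgroup.card_subtype, ← hn]
      exact lt_of_le_of_ne (Nat.le_of_dvd Nat.card_pos L.card_subgroup_dvd_card)
        (fun h => hL (Subgroup.eq_top_of_card_eq L h))
    obtain ⟨x, hx⟩ := ih _ hlt H (L.map K.subtype) rfl hH hHall (fun p hp hpd => hK p hp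
      (hpd.trans (Subgroup.card_dvd_of_le (Subgroup.map_subtype_le L))))
    have : Group.IsNilpotent (MulAut.conj x • H : Subgroup G) :=
      Group.nilpotent_of_mulEquiv (Subgroup.equivSMul (MulAut.conj x) H)
    have hLn : Group.IsNilpotent (L.map K.subtype) :=
      Group.nilpotent_of_mulEquiv (Subgroup.subgroupOfEquivOfLe hx)
    exact Group.nilpotent_of_mulEquiv
      (L.equivMapOfInjective K.subtype K.subtype_injective).symm)
  have := Fact.mk hq
  -- a Sylow `q`-subgroup of `H` is one of `G`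
  have hqK : q ∣ Nat.card K := by
    obtain ⟨i, hi⟩ := IsPGroup.iff_card.1 Q.2
    have hi0 : i ≠ 0 := fun h0 => hQbot (Subgroup.card_eq_one.1 (by rw [hi, h0, pow_zero]))
    exact ((dvd_pow_self q hi0).trans hi.symm.dvd).trans (Subgroup.card_subgroup_dvd_card _)
  have hqH : ¬ q ∣ H.index := fun hd =>
    hq.ne_one (Nat.eq_one_of_dvd_coprimes hHall (hK q hq hqK) hd)
  obtain ⟨T⟩ : Nonempty (Sylow q H) := inferInstance
  have hTidx : ¬ q ∣ ((T : Subgroup H).map H.subtype).index := by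
    intro hd
    rw [Subgroup.index_map_subtype] at hd
    rcases hq.dvd_mul.1 hd with h | h
    exacts [T.not_dvd_index h, hqH h]
  let S : Sylow q G := (T.2.map H.subtype).toSylow hTidx
  obtain ⟨S', hS'⟩ := (Q.2.map K.subtype).exists_le_sylow
  obtain ⟨g, hg⟩ := MulAction.exists_smul_eq G S S'
  -- move `K`
  set K1 : Subgroup G := MulAut.conj g⁻¹ • K with hK1
  suffices h : ∃ x : G, K1 ≤ MulAut.conj x • H by
    obtain ⟨x, hx⟩ := h
    refine ⟨g * x, fun k hk => ?_⟩
    have := hx (Subgroup.smul_mem_pointwise_smul k (MulAut.conj g⁻¹) K hk)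
    rw [Subgroup.mem_pointwise_smul_iff_inv_smul_mem] at this ⊢
    simpa [MulAut.smul_def, mul_assoc] using this
  set Q1 : Subgroup G := MulAut.conj g⁻¹ • ((Q : Subgroup K).map K.subtype) with hQ1
  have hQ1S : Q1 ≤ (T : Subgroup H).map H.subtype := by
    intro z hz
    rw [hQ1, Subgroup.mem_pointwise_smul_iff_inv_smul_mem] at hz
    have h1 := hS' hz
    rw [← hg, Sylow.coe_subgroup_smul, Subgroup.mem_pointwise_smul_iff_inv_smul_mem] at h1
    have h2 : (S : Subgroup G) = (T : Subgroup H).map H.subtype := rfl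
    rw [h2] at h1
    simpa [MulAut.smul_def, mul_assoc] using h1
  have hQ1K : Q1 ≤ K1 := (Subgroup.pointwise_smul_le_pointwise_smul_iff).2 (Subgroup.map_subtype_le _)
  have hK1card : Nat.card K1 = n := by
    rw [← hn]; exact (Nat.card_congr (Subgroup.equivSMul (MulAut.conj g⁻¹) K).toEquiv).symm
  have hQ1card : Nat.card Q1 = Nat.card Q := by
    rw [← Subgroup.card_subtype]
    exact (Nat.card_congr (Subgroup.equivSMul (MulAut.conj g⁻¹) _).toEquiv).symm
  set N : Subgroup G := Subgroup.normalizer (Q1 : Set G) with hN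
  have hK1N : K1 ≤ N := by
    intro k hk
    rw [hK1, Subgroup.mem_pointwise_smul_iff_inv_smul_mem] at hk
    have hk' : g * k * g⁻¹ ∈ K := by simpa [MulAut.smul_def, mul_assoc] using hk
    rw [hN, Subgroup.mem_normalizer_iff]
    intro z
    have hnorm := hQn.conj_mem
    simp only [hQ1, Subgroup.mem_pointwise_smul_iff_inv_smul_mem, MulAut.smul_def]
    simp only [map_inv, inv_inv, MulAut.conj_apply]
    constructor
    · rintro ⟨a, ha, he⟩
      refine ⟨⟨g * k * g⁻¹, hk'⟩ * a * ⟨g * k * g⁻¹, hk'⟩⁻¹, hnorm a ha _, ?_⟩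
      rw [map_mul, map_mul, map_inv, he]
      simp [mul_assoc]
    · rintro ⟨a, ha, he⟩
      refine ⟨⟨g * k * g⁻¹, hk'⟩⁻¹ * a * ⟨g * k * g⁻¹, hk'⟩, ?_, ?_⟩
      · have h5 := hnorm a ha (⟨g * k * g⁻¹, hk'⟩⁻¹)
        rwa [inv_inv] at h5
      · rw [map_mul, map_mul, map_inv, he]
        simp [mul_assoc]
  obtain ⟨M, hMn, hMc, i, hMi⟩ := hasNormalPComplement_iff_exists.1 (hasNormalPComplement_of_nilpotent (G := H) q)
  set Hq : Subgroup G := M.map H.subtype with hHq
  have hHqH : Hq ≤ H := Subgroup.map_subtype_le _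
  have hHqN : Hq ≤ N := by
    refine le_trans ?_ (Subgroup.centralizer_le_normalizer _)
    rintro _ ⟨m, hm, rfl⟩
    rw [Subgroup.mem_centralizer_iff]
    intro z hz
    obtain ⟨t, ht, rfl⟩ := hQ1S hz
    obtain ⟨j, hj⟩ := IsPGroup.iff_orderOf.1 T.2 ⟨t, ht⟩
    rw [Subgroup.orderOf_mk] at hj
    have h1 : orderOf m ∣ Nat.card M := Subgroup.orderOf_mk m hm ▸ orderOf_dvd_natCard _
    exact congrArg Subtype.val (commute_of_nilpotent' hq hj (Nat.Coprime.coprime_dvd_left h1 hMc)).eq
  -- a complement of `Q1` in `K1`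
  have hQ1n : (Q1.subgroupOf K1).Normal :=
    Subgroup.normal_subgroupOf_of_le_normalizer hK1N
  have hcop : (Nat.card (Q1.subgroupOf K1)).Coprime (Q1.subgroupOf K1).index := by
    have h1 : Nat.card (Q1.subgroupOf K1) = Nat.card Q := by
      rw [← hQ1card]; exact Nat.card_congr (Subgroup.subgroupOfEquivOfLe hQ1K).toEquiv
    have h2 := (Q1.subgroupOf K1).card_mul_index
    rw [h1, hK1card, ← hn, ← (Q : Subgroup K).card_mul_index] at h2
    rw [h1, Nat.eq_of_mul_eq_mul_left Nat.card_pos h2]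
    exact Q.card_coprime_index
  obtain ⟨R, hR⟩ := Subgroup.exists_right_complement'_of_coprime hcop
  have hRidx : Nat.card R = (Q1.subgroupOf K1).index := hR.symm.index_eq_card.symm
  have hQR : Q1 ⊔ R.map K1.subtype = K1 := by
    have := congrArg (Subgroup.map K1.subtype) hR.sup_eq_top
    rwa [Subgroup.map_sup, Subgroup.subgroupOf_map_subtype, inf_eq_left.2 hQ1K, ← MonoidHom.range_eq_map,
      Subgroup.range_subtype] at this
  have hqR : ¬ q ∣ Nat.card R := by
    intro hd
    have h1 : q ∣ Nat.card (Q1.subgroupOf K1) := by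
      rw [Nat.card_congr (Subgroup.subgroupOfEquivOfLe hQ1K).toEquiv, hQ1card]
      obtain ⟨j, hj⟩ := IsPGroup.iff_card.1 Q.2
      have hj0 : j ≠ 0 := fun h0 => hQbot (Subgroup.card_eq_one.1 (by rw [hj, h0, pow_zero]))
      rw [hj]; exact dvd_pow_self q hj0
    exact hq.ne_one (Nat.eq_one_of_dvd_coprimes hcop h1 (hRidx ▸ hd))
  set R1 : Subgroup N := (R.map K1.subtype).subgroupOf N with hR1
  have hRN : R.map K1.subtype ≤ N := (Subgroup.map_subtype_le _).trans hK1N
  have hR1card : Nat.card R1 = Nat.card R := by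
    rw [hR1, Nat.card_congr (Subgroup.subgroupOfEquivOfLe hRN).toEquiv, Subgroup.card_subtype]
  have hlt : Nat.card R1 < n := by
    rw [hR1card, ← hK1card]
    refine lt_of_le_of_ne (Nat.le_of_dvd Nat.card_pos R.card_subgroup_dvd_card) fun he => hqR ?_
    rw [he, hK1card, ← hn]; exact hqK
  have hHq1card : Nat.card (Hq.subgroupOf N) = Nat.card M := by
    rw [Nat.card_congr (Subgroup.subgroupOfEquivOfLe hHqN).toEquiv, hHq, Subgroup.card_subtype]
  have hA : Group.IsNilpotent (Hq.subgroupOf N) := by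
    have : Group.IsNilpotent M := inferInstance
    exact Group.nilpotent_of_mulEquiv ((M.equivMapOfInjective H.subtype H.subtype_injective).trans
      (Subgroup.subgroupOfEquivOfLe hHqN).symm)
  have hB : (Nat.card (Hq.subgroupOf N)).Coprime (Hq.subgroupOf N).index := by
    have h1 : Hq.relIndex N ∣ Hq.index := Dvd.intro _ (Subgroup.relIndex_mul_index hHqN)
    refine Nat.Coprime.coprime_dvd_right h1 ?_
    rw [hHq1card, hHq, Subgroup.index_map_subtype, hMi]
    refine Nat.Coprime.mul_right (hMc.pow_right i) ?_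
    exact Nat.Coprime.coprime_dvd_left M.card_subgroup_dvd_card hHall
  have hC : ∀ p : ℕ, p.Prime → p ∣ Nat.card R1 → p ∣ Nat.card (Hq.subgroupOf N) := by
    intro p hp hpd
    rw [hR1card] at hpd
    rw [hHq1card]
    have h1 := hK p hp (hn ▸ hK1card ▸ hpd.trans R.card_subgroup_dvd_card)
    rw [← M.card_mul_index, hMi] at h1
    rcases hp.dvd_mul.1 h1 with h | h
    · exact h
    · exact absurd ((Nat.prime_dvd_prime_iff_eq hp hq).1 (hp.dvd_of_dvd_pow h) ▸ hpd) hqR
  obtain ⟨x, hx⟩ := ih _ hlt (Hq.subgroupOf N) R1 rfl hA hB hC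
  refine ⟨x, hQR ▸ sup_le ?_ ?_⟩
  · intro z hz
    rw [Subgroup.mem_pointwise_smul_iff_inv_smul_mem]
    have hz' : (x : G)⁻¹ * z * x ∈ Q1 := by
      have := (Subgroup.mem_normalizer_iff.1 x.2 ((x : G)⁻¹ * z * x)).2
      exact this (by simpa [mul_assoc] using hz)
    obtain ⟨t, -, ht⟩ := hQ1S hz'
    simp only [MulAut.smul_def, MulAut.inv_apply, MulAut.conj_symm_apply]
    rw [← ht]; exact t.2
  · rintro _ ⟨r, hr, rfl⟩
    have h1 := hx (show (⟨(r : G), hRN ⟨r, hr, rfl⟩⟩ : N) ∈ R1 from ⟨r, hr, rfl⟩)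
    rw [Subgroup.mem_pointwise_smul_iff_inv_smul_mem] at h1
    rw [Subgroup.mem_pointwise_smul_iff_inv_smul_mem]
    simp only [MulAut.smul_def, MulAut.inv_apply, MulAut.conj_symm_apply, Subgroup.mem_subgroupOf] at h1 ⊢
    exact hHqH h1

end CfsgLib.Schmidt
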